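import Groth.Agent.S2345
import Groth.Agent.VarDim.Scheme
import Mathlib.AlgebraicGeometry.SpreadingOut
import Mathlib.CategoryTheory.Monoidal.Cartesian.Over
import Mathlib.RingTheory.DiscreteValuationRing.TFAE
import Mathlib.FieldTheory.IntermediateField.Adjoin.Basic

/-!
# The normal complete curve mapping onto a one dimensional point
-/

set_option autoImplicit false
set_option backward.isDefEq.respectTransparency.types false

universe u

open CategoryTheory AlgebraicGeometry
open Groth.Agent.VarDim

namespace Groth.Agent.AbRigid.Product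

attribute [local instance] Curv2.resAlgebra Groth.Agent.VarDim.secAlgebra

variable {K : Type u} [Field K]

/-- The residue fields of a scheme locally of finite type over a field are finitely generated. -/
theorem residueField_fg {X : Scheme.{u}} [X.Over (Spec (CommRingCat.of K))]
    [LocallyOfFiniteType (X ↘ Spec (CommRingCat.of K))] (x : X) :
    (⊤ : IntermediateField K (X.residueField x)).FG := by
  classical
  obtain ⟨U, hU, hxU, -⟩ := exists_isAffineOpen_mem_and_subset (X := X) (x := x) (U := ⊤) trivial
  obtain ⟨s, hs⟩ := (finiteType_sections K hU).out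
  refine ⟨s.image (X.evaluation U x hxU), eq_top_iff.2 fun z _ => ?_⟩
  let ev : Γ(X, U) →ₐ[K] X.residueField x :=
    { (X.evaluation U x hxU).hom with commutes' := evaluation_algebraMap K X U x hxU }
  have hev : ∀ a, ev a ∈ IntermediateField.adjoin K ((s.image (X.evaluation U x hxU) : Finset _) : Set (X.residueField x)) := by
    intro a
    have h : (Algebra.adjoin K (s : Set Γ(X, U))).map ev ≤
        (IntermediateField.adjoin K ((s.image (X.evaluation U x hxU) : Finset _) : Set (X.residueField x))).toSubalgebra := by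
      rw [AlgHom.map_adjoin, Algebra.adjoin_le_iff]
      rintro _ ⟨b, hb, rfl⟩
      exact IntermediateField.subset_adjoin K _ (Finset.mem_image_of_mem _ hb)
    exact h ⟨a, hs.symm ▸ Algebra.mem_top, rfl⟩
  obtain ⟨a, b, hb, h⟩ := exists_evaluation_mul_eq hU x hxU z
  have hb' : ev b ≠ 0 := fun h0 => hb ((evaluation_eq_zero_iff hU x hxU b).1 h0)
  rw [(eq_div_iff hb').2 h]
  exact div_mem (hev a) (hev b)

/-- The structure map at a local ring. -/
theorem fromSpecStalk_structure (X : Scheme.{u}) [X.Over (Spec (CommRingCat.of K))] (x : X) :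
    X.fromSpecStalk x ≫ (X ↘ Spec (CommRingCat.of K)) =
      Spec.map (CommRingCat.ofHom (Curv2.stalkMap K X x)) := by
  conv_lhs => rw [← Category.comp_id (X ↘ Spec (CommRingCat.of K)), ← toSpecΓ_SpecMap_ΓSpecIso_inv]
  rw [Scheme.toSpecΓ_naturality_assoc, Scheme.fromSpecStalk_toSpecΓ_assoc, ← Spec.map_comp,
    ← Spec.map_comp]
  rfl

/-- A point with residue field of transcendence degree one is the image of the generic point of an
open subscheme of a normal complete curve. -/
theorem exists_curve {X : Scheme.{u}} [X.Over (Spec (CommRingCat.of K))]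
    [LocallyOfFiniteType (X ↘ Spec (CommRingCat.of K))] (z : X) (hz : dimPt K X z = 1) :
    ∃ (C : Over (Spec (CommRingCat.of K))) (_ : IsIntegral C.left) (_ : IsProper C.hom)
      (C₀ : C.left.Opens) (g : (C₀ : Scheme.{u}) ⟶ X) (hη : genericPoint C.left ∈ C₀),
      g ≫ (X ↘ Spec (CommRingCat.of K)) = C₀.ι ≫ C.hom ∧ g ⟨genericPoint C.left, hη⟩ = z ∧
      ∀ c : C.left, IsClosed ({c} : Set C.left) → IsDiscreteValuationRing (C.left.presheaf.stalk c) := by
  have htr : Algebra.trdeg K (X.residueField z) = 1 := by
    rw [trdeg_residueField, hz, Nat.cast_one]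
  obtain ⟨C, oC, iC, pC, hN, hdim, e, he⟩ :=
    Groth.Agent.S2345.result K (X.residueField z) (residueField_fg z) htr
  let φ : Spec (C.presheaf.stalk (genericPoint C)) ⟶ X :=
    Spec.map (CommRingCat.ofHom e.symm.toRingHom) ≫ X.fromSpecResidueField z
  have hφ : φ ≫ (X ↘ Spec (CommRingCat.of K)) =
      C.fromSpecStalk (genericPoint C) ≫ (C ↘ Spec (CommRingCat.of K)) := by
    have h1 : φ ≫ (X ↘ Spec (CommRingCat.of K)) = Spec.map (CommRingCat.ofHom (Curv2.stalkMap K X z) ≫
        X.residue z ≫ CommRingCat.ofHom e.symm.toRingHom) := by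
      rw [Spec.map_comp, Spec.map_comp, ← fromSpecStalk_structure, Category.assoc, Category.assoc]
      rfl
    rw [h1, fromSpecStalk_structure]
    congr 1
    ext a
    show e.symm (Curv2.resMap K X z a) = Curv2.stalkMap K C _ a
    exact (RingEquiv.symm_apply_eq e).2 (he a).symm
  obtain ⟨C₀, hη, g, hg, hgw⟩ := spread_out_of_isGermInjective'
    (C ↘ Spec (CommRingCat.of K)) (X ↘ Spec (CommRingCat.of K)) (x := genericPoint C) φ hφ
  refine ⟨Over.mk (C ↘ Spec (CommRingCat.of K)), iC, pC, C₀, g, hη, hgw, ?_, fun c hc => ?_⟩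
  · have hp : C₀.fromSpecStalkOfMem (genericPoint C) hη
        (IsLocalRing.closedPoint (C.presheaf.stalk (genericPoint C))) = ⟨genericPoint C, hη⟩ := by
      apply Subtype.ext
      show C₀.ι _ = _
      rw [← Scheme.Hom.comp_apply, Scheme.Opens.fromSpecStalkOfMem_ι]
      exact Scheme.fromSpecStalk_closedPoint
    show g.base (⟨genericPoint C, hη⟩ : (C₀ : Scheme.{u})) = z
    rw [← hp]
    show (C₀.fromSpecStalkOfMem (genericPoint C) hη ≫ g) _ = z
    rw [← hg]
    show X.fromSpecResidueField z _ = z
    exact Scheme.fromSpecResidueField_apply _ _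
  · have : IsLocallyNoetherian C := LocallyOfFiniteType.isLocallyNoetherian (C ↘ Spec (CommRingCat.of K))
    obtain ⟨hd, hn⟩ := hN c
    have : Ring.KrullDimLE 1 (C.presheaf.stalk c) :=
      Ring.krullDimLE_iff.mpr (hdim c hc).le
    have hf : ¬ IsField (C.presheaf.stalk c) := fun h => by
      have h0 := ringKrullDim_eq_zero_of_isField h
      rw [hdim c hc] at h0
      exact one_ne_zero h0
    have : Ring.DimensionLEOne (C.presheaf.stalk c) :=
      ⟨fun hp0 hp => Ring.krullDimLE_one_iff_of_noZeroDivisors.mp ‹_› _ hp0 hp⟩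
    have : IsDedekindDomain (C.presheaf.stalk c) :=
      (isDedekindDomain_iff _ (FractionRing (C.presheaf.stalk c))).mpr
        ⟨hd, inferInstance, inferInstance, fun {_} hx => IsIntegrallyClosed.algebraMap_eq_of_integral hx⟩
    exact ((IsDiscreteValuationRing.TFAE (C.presheaf.stalk c) hf).out 2 0).1 this

end Groth.Agent.AbRigid.Product
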