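import Groth.Agent.FlatMor.FibreStalk
import Mathlib.AlgebraicGeometry.AlgClosed.Basic
import Mathlib.AlgebraicGeometry.FunctionField
import Mathlib.CategoryTheory.Monoidal.Cartesian.Over
import Mathlib.RingTheory.DiscreteValuationRing.TFAE
import Mathlib.RingTheory.KrullDimension.Field
import Mathlib.Topology.KrullDimension

/-!
# The local ring at the generic point of a fibre of a product with a curve
-/

set_option autoImplicit false
set_option backward.isDefEq.respectTransparency.types false

universe u

open CategoryTheory CategoryTheory.Limits AlgebraicGeometry IsLocalRing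

namespace Groth.Agent.AbRigid.Product

variable {K : Type u} [Field K] [IsAlgClosed K]

/-- At the generic point of the fibre over a closed point with discrete valuation local ring, the
product has a valuation ring as local ring. -/
theorem valuationRing_stalk_product {C Y : Scheme.{u}} (p : C ⟶ Spec (CommRingCat.of K))
    (q : Y ⟶ Spec (CommRingCat.of K)) [LocallyOfFiniteType p] [LocallyOfFiniteType q]
    [IsIntegral Y] [IsIntegral (pullback p q)] (w : ↥(pullback p q))
    (hc : IsClosed ({pullback.fst p q w} : Set C))
    [IsDomain (C.presheaf.stalk (pullback.fst p q w))]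
    (hd : IsDiscreteValuationRing (C.presheaf.stalk (pullback.fst p q w)))
    (hw : pullback.snd p q w = genericPoint Y) (hne : w ≠ genericPoint ↥(pullback p q)) :
    ValuationRing ((pullback p q).presheaf.stalk w) := by
  let π := pullback.fst p q
  obtain ⟨c, hwc⟩ : ∃ c, π w = c := ⟨_, rfl⟩
  have hc : IsClosed ({c} : Set C) := hwc ▸ hc
  have hj : IsIso (C.fromSpecResidueField c ≫ p) := by
    rw [← SpecMap_residueFieldIsoBase_inv p c hc]; infer_instance
  let F := π.fiber c
  let ψ : F ⟶ Y := π.fiberι c ≫ pullback.snd p q
  have hiso : IsIso ψ := by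
    have hsq := (IsPullback.of_hasPullback π (C.fromSpecResidueField c)).paste_horiz
      (IsPullback.of_hasPullback p q).flip
    have e : ψ = hsq.isoPullback.hom ≫ pullback.fst q _ := (hsq.isoPullback_hom_fst).symm
    rw [e]
    have : IsIso (pullback.fst q (C.fromSpecResidueField c ≫ p)) := inferInstance
    exact IsIso.comp_isIso
  have : IsIntegral F := IsIntegral.of_isIso (inv ψ)
  obtain ⟨y, hy⟩ : w ∈ Set.range (π.fiberι c) := by rw [Scheme.Hom.range_fiberι]; exact hwc
  have hyη : y = genericPoint F := ψ.isOpenEmbedding.injective (by
    show (π.fiberι c ≫ pullback.snd p q) y = _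
    rw [Scheme.Hom.comp_apply, hy, hw, genericPoint_eq_of_isOpenImmersion ψ])
  subst hyη
  let t := (π.fiberι c).stalkMap (genericPoint F)
  have hker := Groth.Agent.FlatMor.FibreStalk.ker_stalkMap_fiberι π c (genericPoint F)
  letI : _root_.Field (F.presheaf.stalk (genericPoint F)) :=
    inferInstanceAs (_root_.Field F.functionField)
  have hmax : (RingHom.ker t.hom).IsMaximal :=
    RingHom.ker_isMaximal_of_surjective t.hom ((π.fiberι c).stalkMap_surjective _)
  subst hy
  have hd' : IsDiscreteValuationRing (C.presheaf.stalk (π (π.fiberι c (genericPoint F)))) := hd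
  obtain ⟨a, ha⟩ := (IsPrincipalIdealRing.principal
    (maximalIdeal (C.presheaf.stalk (π (π.fiberι c (genericPoint F)))))).principal
  have hprin : (maximalIdeal ((pullback p q).presheaf.stalk (π.fiberι c (genericPoint F)))).IsPrincipal := by
    rw [← eq_maximalIdeal hmax, hker, ha]
    exact ⟨⟨(π.stalkMap _).hom a, by rw [Ideal.submodule_span_eq, Ideal.map_span, Set.image_singleton]⟩⟩
  have : IsLocallyNoetherian (pullback p q) :=
    LocallyOfFiniteType.isLocallyNoetherian (pullback.fst p q ≫ p)
  have hnf : ¬ IsField ((pullback p q).presheaf.stalk (π.fiberι c (genericPoint F))) := fun h => by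
    have h0 := ringKrullDim_eq_zero_of_isField h
    rw [ringKrullDim_stalk_eq_coheight] at h0
    have h1 : Order.coheight (π.fiberι c (genericPoint F)) = 0 := by exact_mod_cast h0
    have hs : π.fiberι c (genericPoint F) ⤳ genericPoint ↥(pullback p q) :=
      (Order.coheight_eq_zero.mp h1) (genericPoint_specializes _)
    exact hne (hs.antisymm (genericPoint_specializes _)).eq
  have hdom : IsDomain ((pullback p q).presheaf.stalk (π.fiberι c (genericPoint F))) :=
    Function.Injective.isDomain _ (IsFractionRing.injective _ (pullback p q).functionField)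
  exact ((IsDiscreteValuationRing.TFAE _ hnf).out 4 1).1 hprin

end Groth.Agent.AbRigid.Product
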