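import Groth.Agent.AbRigid.Product.Extend
import Groth.Agent.AbRigid.Product.Curve
import Groth.Agent.AbRigid.Product.Fibre
import Groth.Agent.AbRigid.Unital.Field
import Groth.Agent.PicAlg.CurveThrough

/-!
# A morphism from a product of varieties to a proper group, trivial on the axes, is trivial
-/

set_option autoImplicit false
set_option backward.isDefEq.respectTransparency.types false

universe u

open CategoryTheory CategoryTheory.Limits MonoidalCategory CartesianMonoidalCategory AlgebraicGeometry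
open TopologicalSpace MonObj
open Groth.Agent.AbRigid.Unital.Field (pt hom_ext_pt)

namespace Groth.Agent.AbRigid.Product

variable {K : Type u} [_root_.Field K] [IsAlgClosed K]

/-- Closed points are rational. -/
theorem exists_point {X : Over (Spec (CommRingCat.of K))} [LocallyOfFiniteType X.hom] (x : X.left)
    (hx : IsClosed ({x} : Set X.left)) : ∃ a : 𝟙_ (Over (Spec (CommRingCat.of K))) ⟶ X, a.left pt = x :=
  ⟨Over.homMk (pointOfClosedPoint X.hom x hx) (pointOfClosedPoint_comp X.hom x hx),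
    pointOfClosedPoint_apply X.hom x hx _⟩

/-- Rational points are closed. -/
theorem isClosed_point {X : Over (Spec (CommRingCat.of K))} [LocallyOfFiniteType X.hom] (a : 𝟙_ (Over (Spec (CommRingCat.of K))) ⟶ X) :
    IsClosed ({a.left pt} : Set X.left) :=
  ((pointEquivClosedPoint X.hom) ⟨a.left, Over.w a⟩).2

/-- Morphisms from a reduced scheme are determined by the rational points. -/
theorem hom_ext_points {X A : Over (Spec (CommRingCat.of K))} [LocallyOfFiniteType X.hom] [IsReduced X.left]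
    [LocallyOfFiniteType A.hom] [IsSeparated A.hom] (f g : X ⟶ A)
    (h : ∀ a : 𝟙_ (Over (Spec (CommRingCat.of K))) ⟶ X, a ≫ f = a ≫ g) : f = g := by
  haveI : LocallyOfFiniteType (f.left ≫ A.hom) := by rw [Over.w f]; infer_instance
  refine Over.OverMorphism.ext (ext_of_apply_eq A.hom Set.univ isOpen_univ.isLocallyClosed dense_univ
    (fun x _ hx => ?_) ((Over.w f).trans (Over.w g).symm))
  obtain ⟨a, rfl⟩ := exists_point x hx
  exact congrArg (fun m : 𝟙_ (Over (Spec (CommRingCat.of K))) ⟶ A => m.left pt) (h a)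

variable {C X Y A : Over (Spec (CommRingCat.of K))} [GrpObj A] [IsProper A.hom] [IsProper C.hom] [IsIntegral C.left]
  [LocallyOfFiniteType Y.hom] [IsIntegral Y.left]

/-- Along a curve, the morphisms `Y ⟶ A` do not change. -/
theorem slice_eq_of_curve
    (hdvr : ∀ c : C.left, IsClosed ({c} : Set C.left) → IsDiscreteValuationRing (C.left.presheaf.stalk c))
    (C₀ : C.left.Opens) (hC₀ : (C₀ : Set C.left).Nonempty)
    (gc : Over.mk (C₀.ι ≫ C.hom) ⟶ X) (h : X ⊗ Y ⟶ A) (y₀ : 𝟙_ (Over (Spec (CommRingCat.of K))) ⟶ Y)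
    (hy₀ : lift (𝟙 X) (toUnit X ≫ y₀) ≫ h = 1) (c c₁ : 𝟙_ (Over (Spec (CommRingCat.of K))) ⟶ Over.mk (C₀.ι ≫ C.hom)) :
    lift (toUnit Y ≫ c ≫ gc) (𝟙 Y) ≫ h = lift (toUnit Y ≫ c₁ ≫ gc) (𝟙 Y) ≫ h := by
  have : GeometricallyIntegral C.hom := Unital.Field.geometricallyIntegral C.hom
  have : IsLocallyNoetherian C.left := LocallyOfFiniteType.isLocallyNoetherian C.hom
  have : IsLocallyNoetherian Y.left := LocallyOfFiniteType.isLocallyNoetherian Y.hom
  have : IsIntegral (C ⊗ Y).left := inferInstanceAs (IsIntegral (pullback C.hom Y.hom))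
  let W := (C ⊗ Y).left
  let Co : Over (Spec (CommRingCat.of K)) := Over.mk (C₀.ι ≫ C.hom)
  let ιc : Co ⟶ C := Over.homMk C₀.ι rfl
  have : Mono ιc := (Over.forget _).mono_of_mono_map (inferInstanceAs (Mono C₀.ι))
  let U₀ : W.Opens := (fst C Y).left ⁻¹ᵁ C₀
  have hfs : Surjective (fst C Y).left := by
    show Surjective (pullback.fst C.hom Y.hom)
    have : Surjective Y.hom := ⟨fun s => ⟨Classical.arbitrary _, Subsingleton.elim _ _⟩⟩
    infer_instance
  have hU₀ : (U₀ : Set W).Nonempty := by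
    obtain ⟨x, hx⟩ := hC₀
    obtain ⟨w, rfl⟩ := (fst C Y).left.surjective x
    exact ⟨w, hx⟩
  let Uo : Over (Spec (CommRingCat.of K)) := Over.mk (U₀.ι ≫ (C ⊗ Y).hom)
  let iU : Uo ⟶ C ⊗ Y := Over.homMk U₀.ι rfl
  have hkr : Set.range (U₀.ι ≫ (fst C Y).left) ⊆ Set.range C₀.ι := by
    rintro _ ⟨w, rfl⟩
    rw [Scheme.Opens.range_ι]
    exact w.2
  let k : Uo ⟶ Co := Over.homMk (IsOpenImmersion.lift C₀.ι (U₀.ι ≫ (fst C Y).left) hkr) (by
    show _ ≫ C₀.ι ≫ C.hom = U₀.ι ≫ (C ⊗ Y).hom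
    rw [← Category.assoc, IsOpenImmersion.lift_fac, Category.assoc, Over.w (fst C Y)])
  have hk : k ≫ ιc = iU ≫ fst C Y := Over.OverMorphism.ext (IsOpenImmersion.lift_fac _ _ _)
  let g₀ : Uo ⟶ A := lift (k ≫ gc) (iU ≫ snd C Y) ≫ h
  obtain ⟨Ω, h₀, g, hgA, hgU, hΩ⟩ := exists_extension_valuation (C ⊗ Y).hom A.hom U₀ hU₀ g₀.left
    (Over.w g₀)
  -- the points over the generic point of `Y` are in `Ω`
  have hgen : ∀ w : W, (snd C Y).left w = genericPoint Y.left → w ∈ Ω := by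
    intro w hw
    by_cases hwU : w ∈ U₀
    · exact h₀ hwU
    have hcl : IsClosed ({(fst C Y).left w} : Set C.left) := by
      have hC0 : (fst C Y).left w ≠ genericPoint C.left := fun h0 => hwU (by
        show (fst C Y).left w ∈ C₀
        rw [h0]
        exact (genericPoint_specializes _).mem_open C₀.2 hC₀.choose_spec)
      have : JacobsonSpace ↥C.left := LocallyOfFiniteType.jacobsonSpace C.hom
      obtain ⟨c', hc's, hc'⟩ := nonempty_inter_closedPoints (Z := closure {(fst C Y).left w})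
        ⟨_, subset_closure rfl⟩ isClosed_closure.isLocallyClosed
      rcases eq_or_ne c' ((fst C Y).left w) with heq | hne
      · exact heq ▸ hc'
      exfalso
      have h1 : c' < (fst C Y).left w := lt_iff_le_not_ge.2 ⟨specializes_iff_mem_closure.2 hc's,
        fun h => hne ((show c' ⤳ _ from h).antisymm (specializes_iff_mem_closure.2 hc's)).eq⟩
      have h2 : (fst C Y).left w < genericPoint C.left := lt_iff_le_not_ge.2 ⟨genericPoint_specializes _,
        fun h => hC0 ((show (fst C Y).left w ⤳ _ from h).antisymm (genericPoint_specializes _)).eq⟩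
      have hd : IsDomain (C.left.presheaf.stalk c') :=
        Function.Injective.isDomain _ (IsFractionRing.injective _ C.left.functionField)
      have := hdvr c' hc'
      have h3 := IsDiscreteValuationRing.ringKrullDim_eq_one (C.left.presheaf.stalk c')
      rw [ringKrullDim_stalk_eq_coheight] at h3
      have h3' : Order.coheight c' = 1 := by exact_mod_cast h3
      have h4 := Order.coheight_add_one_le h2
      have h5 := Order.coheight_add_one_le h1
      rw [h3'] at h5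
      have h6 : (1 : ℕ∞) + 1 ≤ 1 := (add_le_add (le_add_self.trans h4) le_rfl).trans h5
      exact absurd h6 (by decide)
    have : IsDomain (C.left.presheaf.stalk ((fst C Y).left w)) :=
      Function.Injective.isDomain _ (IsFractionRing.injective _ C.left.functionField)
    have : IsIntegral (pullback C.hom Y.hom) := ‹IsIntegral (C ⊗ Y).left›
    refine hΩ w (valuationRing_stalk_product C.hom Y.hom w hcl (hdvr _ hcl) hw ?_)
    intro hwη
    exact hwU (hwη ▸ (genericPoint_specializes _).mem_open U₀.2 hU₀.choose_spec)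
  have hsl : (snd C Y).left = pullback.snd C.hom Y.hom := rfl
  have : IsProper (snd C Y).left := hsl ▸ inferInstance
  let V : Y.left.Opens := ⟨((snd C Y).left '' (Ω : Set W)ᶜ)ᶜ,
    ((snd C Y).left.isClosedMap _ Ω.2.isClosed_compl).isOpen_compl⟩
  have hηV : genericPoint Y.left ∈ V := fun ⟨w, hw, hwη⟩ => hw (hgen w hwη)
  let Vo : Over (Spec (CommRingCat.of K)) := Over.mk (V.ι ≫ Y.hom)
  let iV : Vo ⟶ Y := Over.homMk V.ι rfl
  have : LocallyOfFiniteType Vo.hom := inferInstanceAs (LocallyOfFiniteType (V.ι ≫ Y.hom))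
  have : Nonempty Vo.left := ⟨⟨_, hηV⟩⟩
  have : IsIntegral Vo.left := isIntegral_of_isOpenImmersion V.ι
  have : JacobsonSpace ↥Vo.left := LocallyOfFiniteType.jacobsonSpace Vo.hom
  have : IsLocallyNoetherian Vo.left := LocallyOfFiniteType.isLocallyNoetherian Vo.hom
  have hjr : Set.range (C ◁ iV).left ⊆ Set.range Ω.ι := by
    rintro _ ⟨w, rfl⟩
    rw [Scheme.Opens.range_ι]
    by_contra hn
    have h1 : (snd C Y).left ((C ◁ iV).left w) ∈ V := by
      rw [← Scheme.Hom.comp_apply, ← Over.comp_left, whiskerLeft_snd, Over.comp_left,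
        Scheme.Hom.comp_apply]
      exact ((snd C Vo).left w).2
    exact h1 ⟨_, hn, rfl⟩
  let H : C ⊗ Vo ⟶ A := Over.homMk (IsOpenImmersion.lift Ω.ι (C ◁ iV).left hjr ≫ g) (by
    rw [Category.assoc, hgA, ← Category.assoc, IsOpenImmersion.lift_fac, Over.w (C ◁ iV)])
  -- on the rational points of the curve, `H` is `h`
  have hH : ∀ c : 𝟙_ (Over (Spec (CommRingCat.of K))) ⟶ Co, lift (toUnit Vo ≫ c ≫ ιc) (𝟙 Vo) ≫ H =
      iV ≫ lift (toUnit Y ≫ c ≫ gc) (𝟙 Y) ≫ h := by
    intro c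
    let s : Vo ⟶ C ⊗ Vo := lift (toUnit Vo ≫ c ≫ ιc) (𝟙 Vo)
    let t : Vo ⟶ C ⊗ Y := s ≫ (C ◁ iV)
    have htr : Set.range t.left ⊆ Set.range U₀.ι := by
      rintro _ ⟨v, rfl⟩
      rw [Scheme.Opens.range_ι]
      show (fst C Y).left (t.left v) ∈ C₀
      rw [← Scheme.Hom.comp_apply, ← Over.comp_left, show t ≫ fst C Y = toUnit Vo ≫ c ≫ ιc by simp [t, s]]
      exact (c.left ((toUnit Vo).left v)).2
    let l : Vo ⟶ Uo := Over.homMk (IsOpenImmersion.lift U₀.ι t.left htr) (by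
      show _ ≫ U₀.ι ≫ (C ⊗ Y).hom = Vo.hom
      rw [← Category.assoc, IsOpenImmersion.lift_fac, Over.w t])
    have hl : l ≫ iU = t := Over.OverMorphism.ext (IsOpenImmersion.lift_fac _ _ _)
    have h1 : s ≫ H = l ≫ g₀ := Over.OverMorphism.ext (by
      show s.left ≫ IsOpenImmersion.lift Ω.ι (C ◁ iV).left hjr ≫ g = l.left ≫ g₀.left
      rw [← hgU, ← Category.assoc, ← Category.assoc]
      congr 1
      rw [← cancel_mono Ω.ι, Category.assoc, IsOpenImmersion.lift_fac, Category.assoc,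
        Scheme.homOfLE_ι]
      exact (congrArg CommaMorphism.left hl).symm)
    rw [h1]
    simp only [g₀, comp_lift_assoc]
    have h2 : l ≫ k = toUnit Vo ≫ c := by
      rw [← cancel_mono ιc, Category.assoc, hk, ← Category.assoc, hl]
      simp [t, s]
    have h3 : l ≫ iU ≫ snd C Y = iV := by
      rw [← Category.assoc, hl]
      simp [t, s]
    rw [← Category.assoc l k gc, h2, h3]
    simp
  -- rigidity
  obtain ⟨v, -, hv⟩ := nonempty_inter_closedPoints (X := Vo.left) (Z := Set.univ) Set.univ_nonempty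
    isOpen_univ.isLocallyClosed
  obtain ⟨v₁, hv₁⟩ := exists_point v hv
  have hgl : (snd C Vo).left = pullback.snd C.hom Vo.hom := rfl
  have : GeometricallyConnected C.hom := Rigid.geometricallyConnected_of_integral C.hom
  have : LocallyOfFinitePresentation C.hom := MonoVal.locallyOfFinitePresentation_of_lft C.hom
  have : IsProper (snd C Vo).left := hgl ▸ inferInstance
  have : Flat (snd C Vo).left := hgl ▸ inferInstance
  have : LocallyOfFinitePresentation (snd C Vo).left := hgl ▸ inferInstance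
  have : GeometricallyConnected (snd C Vo).left := hgl ▸ inferInstance
  have : GeometricallyReduced (snd C Vo).left := hgl ▸ inferInstance
  let f : C ⊗ Vo ⟶ A := H * (fst C Vo ≫ lift (𝟙 C) (toUnit C ≫ v₁) ≫ H)⁻¹
  let σ : Vo ⟶ C ⊗ Vo := lift (toUnit Vo ≫ c₁ ≫ ιc) (𝟙 Vo)
  have hrig := Rigid.eq_of_collapse (snd C Vo) σ (by simp [σ]) f (1 : 𝟙_ (Over (Spec (CommRingCat.of K))) ⟶ A) v₁
    (fun {U} a b hab => by
      have e1 : a ≫ fst C Vo ≫ lift (𝟙 C) (toUnit C ≫ v₁) = a := by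
        refine CartesianMonoidalCategory.hom_ext _ _ (by simp) ?_
        rw [hab, toUnit_unique b (toUnit U)]
        simp
      simp only [f, MonObj.comp_mul, GrpObj.comp_inv, MonObj.comp_one]
      rw [← Category.assoc (fst C Vo), ← Category.assoc a, e1, mul_inv_cancel])
    (fun t => ⟨pt, Set.univ,
      (PreirreducibleSpace.isPreirreducible_univ (X := Vo.left)).isPreconnected, trivial, trivial⟩)
  have hq : ∀ c : 𝟙_ (Over (Spec (CommRingCat.of K))) ⟶ Co, lift (toUnit Vo ≫ c ≫ ιc) (𝟙 Vo) ≫ f =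
      iV ≫ ((lift (toUnit Y ≫ c ≫ gc) (𝟙 Y) ≫ h) *
        (toUnit Y ≫ v₁ ≫ iV ≫ lift (toUnit Y ≫ c ≫ gc) (𝟙 Y) ≫ h)⁻¹) := by
    intro c
    simp only [f, MonObj.comp_mul, GrpObj.comp_inv, hH c]
    congr 2
    rw [← Category.assoc iV (toUnit Y), toUnit_unique (iV ≫ toUnit Y) (toUnit Vo), ← hH c]
    simp [← Category.assoc]
  have hVeq : iV ≫ ((lift (toUnit Y ≫ c ≫ gc) (𝟙 Y) ≫ h) *
        (toUnit Y ≫ v₁ ≫ iV ≫ lift (toUnit Y ≫ c ≫ gc) (𝟙 Y) ≫ h)⁻¹) =
      iV ≫ ((lift (toUnit Y ≫ c₁ ≫ gc) (𝟙 Y) ≫ h) *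
        (toUnit Y ≫ v₁ ≫ iV ≫ lift (toUnit Y ≫ c₁ ≫ gc) (𝟙 Y) ≫ h)⁻¹) := by
    rw [← hq c, ← hq c₁, hrig]
    simp [σ]
  have hYeq := fun {a b : Y ⟶ A} (e : iV ≫ a = iV ≫ b) => (show a = b by
    have : IsDominant V.ι := Opens.isDominant_ι (V.2.dense ⟨_, hηV⟩)
    refine Over.OverMorphism.ext ?_
    exact ext_of_isDominant_of_isSeparated A.hom ((Over.w a).trans (Over.w b).symm) V.ι
      (congrArg CommaMorphism.left e))
  have hmain := hYeq hVeq
  have hy : ∀ c : 𝟙_ (Over (Spec (CommRingCat.of K))) ⟶ Co, y₀ ≫ lift (toUnit Y ≫ c ≫ gc) (𝟙 Y) ≫ h = 1 := by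
    intro c
    have e := congrArg ((c ≫ gc) ≫ ·) hy₀
    simp only [MonObj.comp_one, comp_lift_assoc, Category.comp_id] at e
    rw [← e]
    simp [← Category.assoc, toUnit_unique ((c ≫ gc) ≫ toUnit X) (𝟙 _), toUnit_unique (y₀ ≫ toUnit Y) (𝟙 _)]
  have hv : v₁ ≫ iV ≫ lift (toUnit Y ≫ c ≫ gc) (𝟙 Y) ≫ h =
      v₁ ≫ iV ≫ lift (toUnit Y ≫ c₁ ≫ gc) (𝟙 Y) ≫ h := by
    have e := congrArg (y₀ ≫ ·) hmain
    simp only [MonObj.comp_mul, GrpObj.comp_inv, hy, one_mul, inv_inj, ← Category.assoc y₀,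
      toUnit_unique (y₀ ≫ toUnit Y) (𝟙 _), Category.id_comp] at e
    exact inv_inj.mp (mul_left_cancel e)
  rw [hv] at hmain
  exact mul_right_cancel hmain

omit [IsProper C.hom] [IsIntegral C.left] in
/-- A morphism from a product to a proper group which is trivial on both axes is trivial. -/
theorem eq_one [LocallyOfFiniteType X.hom] [IsIntegral X.left] (h : X ⊗ Y ⟶ A)
    (x₀ : 𝟙_ (Over (Spec (CommRingCat.of K))) ⟶ X) (y₀ : 𝟙_ (Over (Spec (CommRingCat.of K))) ⟶ Y)
    (hx₀ : lift (toUnit Y ≫ x₀) (𝟙 Y) ≫ h = 1) (hy₀ : lift (𝟙 X) (toUnit X ≫ y₀) ≫ h = 1) :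
    h = 1 := by
  have : GeometricallyIntegral X.hom := Unital.Field.geometricallyIntegral X.hom
  have : IsLocallyNoetherian Y.left := LocallyOfFiniteType.isLocallyNoetherian Y.hom
  have : IsIntegral (X ⊗ Y).left := inferInstanceAs (IsIntegral (pullback X.hom Y.hom))
  have : LocallyOfFiniteType (X ⊗ Y).hom :=
    inferInstanceAs (LocallyOfFiniteType (pullback.fst X.hom Y.hom ≫ X.hom))
  refine hom_ext_points _ _ fun p => ?_
  let x := p ≫ fst X Y
  let y := p ≫ snd X Y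
  let φ : X ⟶ A := lift (𝟙 X) (toUnit X ≫ y) ≫ h
  have hp : p = lift x y := by simp [x, y]
  have hφ : ∀ a : 𝟙_ (Over (Spec (CommRingCat.of K))) ⟶ X, a ≫ φ = lift a y ≫ h := fun a => by
    simp [φ, ← Category.assoc, toUnit_unique (a ≫ toUnit X) (𝟙 _)]
  have hφY : ∀ a : 𝟙_ (Over (Spec (CommRingCat.of K))) ⟶ X, a ≫ φ = y ≫ lift (toUnit Y ≫ a) (𝟙 Y) ≫ h := fun a => by
    rw [hφ]
    simp [← Category.assoc, toUnit_unique (y ≫ toUnit Y) (𝟙 _)]
  have hφ0 : x₀ ≫ φ = 1 := by rw [hφY, hx₀, MonObj.comp_one]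
  rw [MonObj.comp_one, hp, ← hφ x]
  by_contra hne
  let a := (x ≫ φ).left pt
  let F : Set X.left := φ.left ⁻¹' {a}
  have hF : IsClosed F := (isClosed_point (x ≫ φ)).preimage φ.left.continuous
  have hxF : x.left pt ∈ F := rfl
  have hFne : x₀.left pt ∉ F := fun h0 => hne (by
    rw [← hφ0]
    exact hom_ext_pt _ _ (show a = _ from h0.symm))
  obtain ⟨U, hU, hxU, -⟩ := exists_isAffineOpen_mem_and_subset (X := X.left) (x := x.left pt) (U := ⊤) trivial
  obtain ⟨z₁, hz₁U, hz₁F⟩ := nonempty_preirreducible_inter U.2 hF.isOpen_compl ⟨_, hxU⟩ ⟨_, hFne⟩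
  obtain ⟨f, hfle, hfz⟩ := hU.exists_basicOpen_le (V := ⟨Fᶜ, hF.isOpen_compl⟩) ⟨z₁, hz₁F⟩ hz₁U
  let O : X.left.Opens := X.left.basicOpen f
  have hOU : O ⊓ U = X.left.basicOpen f := inf_eq_left.2 (X.left.basicOpen_le f)
  letI : X.left.Over (Spec (CommRingCat.of K)) := ⟨X.hom⟩
  haveI : LocallyOfFiniteType (X.left ↘ Spec (CommRingCat.of K)) := ‹LocallyOfFiniteType X.hom›
  obtain ⟨z, hzx, hzO, hz⟩ := Groth.Agent.PicAlg.exists_dimPt_eq_one K (isClosed_point x)
    (fun hxO => hfle hxO hxF) hU hxU f hOU (genericPoint_specializes _)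
    ((genericPoint_specializes _).mem_open O.2 hfz)
  obtain ⟨C', iC, pC, C₀, g, hη, hg, hgz, hdvr⟩ := exists_curve z hz
  let gc : Over.mk (C₀.ι ≫ C'.hom) ⟶ X := Over.homMk g hg
  have : LocallyOfFiniteType (Over.mk (C₀.ι ≫ C'.hom)).hom :=
    inferInstanceAs (LocallyOfFiniteType (C₀.ι ≫ C'.hom))
  have : JacobsonSpace ↥(C₀ : Scheme.{u}) := LocallyOfFiniteType.jacobsonSpace (C₀.ι ≫ C'.hom)
  obtain ⟨c, -, hc⟩ := nonempty_inter_closedPoints (X := (C₀ : Scheme.{u})) (Z := Set.univ)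
    ⟨⟨_, hη⟩, trivial⟩ isOpen_univ.isLocallyClosed
  obtain ⟨c₁, hc₁⟩ := exists_point (X := Over.mk (C₀.ι ≫ C'.hom)) c hc
  let b := (c₁ ≫ gc ≫ φ).left pt
  have hconst : ∀ d : (C₀ : Scheme.{u}), φ.left (g d) = b := by
    have hcl : IsClosed ((fun d => φ.left (g d)) ⁻¹' {b}) :=
      (isClosed_point (c₁ ≫ gc ≫ φ)).preimage ((g ≫ φ.left).continuous)
    intro d
    suffices h1 : closedPoints ↥(C₀ : Scheme.{u}) ⊆ (fun d => φ.left (g d)) ⁻¹' {b} by
      have h2 := hcl.closure_subset_iff.2 h1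
      rw [closure_closedPoints] at h2
      exact h2 trivial
    intro e he
    obtain ⟨c₂, rfl⟩ := exists_point (X := Over.mk (C₀.ι ≫ C'.hom)) e he
    have := slice_eq_of_curve hdvr C₀ ⟨_, hη⟩ gc h y₀ hy₀ c₂ c₁
    have h3 : c₂ ≫ gc ≫ φ = c₁ ≫ gc ≫ φ := by
      rw [← Category.assoc, hφY, this, ← hφY, Category.assoc]
    exact congrArg (fun m : 𝟙_ (Over (Spec (CommRingCat.of K))) ⟶ A => m.left pt) h3
  have hzb : φ.left z = b := hgz ▸ hconst _
  have hzF : z ∈ F := by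
    show φ.left z = a
    rw [hzb]
    have h4 : φ.left z ⤳ φ.left (x.left pt) := hzx.map φ.left.continuous
    rw [hzb] at h4
    exact (Set.eq_of_mem_singleton (h4.mem_closed (isClosed_point (c₁ ≫ gc ≫ φ)) rfl)).symm
  exact hfle hzO hzF

end Groth.Agent.AbRigid.Product
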