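import Mathlib.AlgebraicGeometry.ValuativeCriterion
import Mathlib.AlgebraicGeometry.Birational.RationalMap
import Mathlib.AlgebraicGeometry.Morphisms.Proper
import Groth.Agent.AbVarLib.ExtendCurve

/-!
# Extending a morphism to a proper scheme over the points with valuation local rings
-/

set_option autoImplicit false
set_option backward.isDefEq.respectTransparency.types false

universe u

open CategoryTheory CategoryTheory.Limits AlgebraicGeometry

namespace Groth.Agent.AbRigid.Product

/-- A morphism from a nonempty open of an integral scheme to a proper scheme extends to an open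
containing all points with valuation local rings. -/
theorem exists_extension_valuation {W A S : Scheme.{u}} [IsIntegral W] [S.IsSeparated] (p : W ⟶ S)
    (q : A ⟶ S) [IsProper q] (U₀ : W.Opens) (hne : (U₀ : Set W).Nonempty)
    (g₀ : (U₀ : Scheme.{u}) ⟶ A) (hg₀ : g₀ ≫ q = U₀.ι ≫ p) :
    ∃ (Ω : W.Opens) (h₀ : U₀ ≤ Ω) (g : (Ω : Scheme.{u}) ⟶ A), g ≫ q = Ω.ι ≫ p ∧
      W.homOfLE h₀ ≫ g = g₀ ∧ ∀ x : W, ValuationRing (W.presheaf.stalk x) → x ∈ Ω := by
  have : A.IsSeparated := by
    have : IsSeparated (terminal.from S) := Scheme.IsSeparated.isSeparated_terminal_from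
    exact ⟨by rw [show terminal.from A = q ≫ terminal.from S from terminal.hom_ext _ _]; infer_instance⟩
  let pm : W.PartialMap A := ⟨U₀, U₀.2.dense hne, g₀⟩
  let F := pm.toRationalMap
  refine ⟨F.domain, pm.le_domain_toRationalMap, F.toPartialMap.hom, ?_,
    pm.toPartialMap_toRationalMap_restrict, fun x hx => ?_⟩
  · have : IsDominant (W.homOfLE pm.le_domain_toRationalMap) :=
      Opens.isDominant_homOfLE pm.dense_domain _
    refine ext_of_isDominant (ι := W.homOfLE pm.le_domain_toRationalMap) ?_
    rw [Scheme.homOfLE_ι_assoc]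
    refine (Category.assoc _ _ _).symm.trans ((congrArg (· ≫ q) ?_).trans hg₀)
    exact pm.toPartialMap_toRationalMap_restrict
  have hdom : IsDomain (W.presheaf.stalk x) :=
    Function.Injective.isDomain _ (IsFractionRing.injective (W.presheaf.stalk x) W.functionField)
  have hz : pm.fromFunctionField ≫ q =
      Spec.map (W.presheaf.stalkSpecializes (genericPoint_specializes x)) ≫ W.fromSpecStalk x ≫ p := by
    rw [Scheme.SpecMap_stalkSpecializes_fromSpecStalk_assoc]
    show (pm.domain.fromSpecStalkOfMem _ _ ≫ g₀) ≫ q = _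
    rw [Category.assoc, hg₀, ← Category.assoc, Scheme.Opens.fromSpecStalkOfMem_ι]
  obtain ⟨l, hl₁, hl₂⟩ := AbVarLib.ExtendCurve.exists_lift_valuation q (W.presheaf.stalk x)
    W.functionField (Field.toIsField W.functionField)
    (W.presheaf.stalkSpecializes (genericPoint_specializes x))
    (inferInstanceAs (IsFractionRing (W.presheaf.stalk x) W.functionField)) pm.fromFunctionField
    (W.fromSpecStalk x ≫ p) hz
  let G := Scheme.PartialMap.ofFromSpecStalk p q l hl₂
  have hxG : x ∈ G.domain := Scheme.PartialMap.mem_domain_ofFromSpecStalk p q l hl₂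
  have hG : G.fromFunctionField = pm.fromFunctionField := by
    have hη : genericPoint W ∈ G.domain := (genericPoint_specializes x).mem_open G.domain.2 hxG
    have e : G.domain.fromSpecStalkOfMem (genericPoint W) hη =
        Spec.map (W.presheaf.stalkSpecializes (genericPoint_specializes x)) ≫
          G.domain.fromSpecStalkOfMem x hxG := by
      rw [← cancel_mono G.domain.ι, Category.assoc]
      simp [Scheme.SpecMap_stalkSpecializes_fromSpecStalk]
    show G.domain.fromSpecStalkOfMem (genericPoint W) hη ≫ G.hom = _
    rw [e, Category.assoc]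
    exact (congrArg _ (Scheme.PartialMap.fromSpecStalkOfMem_ofFromSpecStalk p q l hl₂)).trans hl₁
  exact Scheme.RationalMap.mem_domain.mpr
    ⟨G, hxG, Scheme.RationalMap.eq_of_fromFunctionField_eq _ _ hG⟩

end Groth.Agent.AbRigid.Product
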