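import Groth.Agent.AbRigid.Product.AlgClosed
import Mathlib.FieldTheory.IsAlgClosed.AlgebraicClosure
import Mathlib.AlgebraicGeometry.Morphisms.Flat
import Mathlib.CategoryTheory.Monoidal.Cartesian.Grp

/-!
# A morphism from a product of varieties to a proper group, trivial on the axes, over any field
-/

set_option autoImplicit false
set_option backward.isDefEq.respectTransparency.types false

universe u

open CategoryTheory CategoryTheory.Limits MonoidalCategory CartesianMonoidalCategory AlgebraicGeometry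
open MonObj
open scoped CategoryTheory.Obj

namespace Groth.Agent.AbRigid.Product

variable {K : Type u} [_root_.Field K] {X Y A : Over (Spec (CommRingCat.of K))}
  [LocallyOfFiniteType X.hom] [GeometricallyIntegral X.hom] [LocallyOfFiniteType Y.hom]
  [GeometricallyIntegral Y.hom] [GrpObj A] [IsProper A.hom]

/-- Evaluating at a point of each factor, in either order. -/
theorem point_slice {C : Type*} [Category C] [CartesianMonoidalCategory C] {V W B P : C}
    (H : V ⊗ W ⟶ B) (v : 𝟙_ C ⟶ V) (w : 𝟙_ C ⟶ W) :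
    toUnit P ≫ v ≫ lift (𝟙 V) (toUnit V ≫ w) ≫ H =
      toUnit P ≫ w ≫ lift (toUnit W ≫ v) (𝟙 W) ≫ H ∧
    toUnit P ≫ v ≫ lift (𝟙 V) (toUnit V ≫ w) ≫ H = toUnit P ≫ lift v w ≫ H := by
  have e1 : v ≫ lift (𝟙 V) (toUnit V ≫ w) = lift v w := by
    apply CartesianMonoidalCategory.hom_ext <;> simp [toUnit_unique (toUnit (𝟙_ C)) (𝟙 _)]
  have e2 : w ≫ lift (toUnit W ≫ v) (𝟙 W) = lift v w := by
    apply CartesianMonoidalCategory.hom_ext <;> simp [toUnit_unique (toUnit (𝟙_ C)) (𝟙 _)]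
  exact ⟨by rw [← Category.assoc v, ← Category.assoc w, e1, e2], by rw [← Category.assoc v, e1]⟩

/-- A morphism from a product to a proper group which is trivial on both axes is trivial. -/
theorem eq_one_of_field (h : X ⊗ Y ⟶ A) (x₀ : 𝟙_ (Over (Spec (CommRingCat.of K))) ⟶ X)
    (y₀ : 𝟙_ (Over (Spec (CommRingCat.of K))) ⟶ Y)
    (hx₀ : lift (toUnit Y ≫ x₀) (𝟙 Y) ≫ h = 1) (hy₀ : lift (𝟙 X) (toUnit X ≫ y₀) ≫ h = 1) :
    h = 1 := by
  let L := AlgebraicClosure K
  let ξ : Spec (CommRingCat.of L) ⟶ Spec (CommRingCat.of K) :=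
    Spec.map (CommRingCat.ofHom (algebraMap K L))
  let F := Over.pullback ξ
  have hint : ∀ Z : Over (Spec (CommRingCat.of K)), GeometricallyIntegral Z.hom →
      IsIntegral (F.obj Z).left := fun Z hZ =>
    GeometricallyIntegral.geometrically_isIntegral (f := Z.hom) _ _ _ (IsPullback.of_hasPullback Z.hom ξ)
  have := hint X ‹_›
  have := hint Y ‹_›
  have : IsProper (F.obj A).hom := inferInstanceAs (IsProper (pullback.snd A.hom ξ))
  have : LocallyOfFiniteType (F.obj X).hom := inferInstanceAs (LocallyOfFiniteType (pullback.snd X.hom ξ))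
  have : LocallyOfFiniteType (F.obj Y).hom := inferInstanceAs (LocallyOfFiniteType (pullback.snd Y.hom ξ))
  have key := eq_one (Functor.LaxMonoidal.μ F X Y ≫ F.map h) (Functor.LaxMonoidal.ε F ≫ F.map x₀)
    (Functor.LaxMonoidal.ε F ≫ F.map y₀)
    (by
      rw [Functor.Monoidal.toUnit_ε_assoc, ← F.map_comp, ← F.map_id, Functor.Monoidal.lift_μ_assoc,
        ← F.map_comp, hx₀, Functor.map_one])
    (by
      rw [Functor.Monoidal.toUnit_ε_assoc, ← F.map_comp, ← F.map_id, Functor.Monoidal.lift_μ_assoc,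
        ← F.map_comp, hy₀, Functor.map_one])
  have e : F.map h = F.map (1 : X ⊗ Y ⟶ A) := by
    rw [← cancel_epi (Functor.LaxMonoidal.μ F X Y), key, Functor.map_one, MonObj.comp_one]
  have hξs : Surjective ξ := ⟨fun s => ⟨Classical.arbitrary _, Subsingleton.elim _ _⟩⟩
  have : Flat ξ := inferInstance
  have : Epi (pullback.fst (X ⊗ Y).hom ξ) := Flat.epi_of_flat_of_surjective _
  refine Over.OverMorphism.ext ((cancel_epi (pullback.fst (X ⊗ Y).hom ξ)).mp ?_)
  have e' := congrArg (fun m : F.obj (X ⊗ Y) ⟶ F.obj A => m.left ≫ pullback.fst A.hom ξ) e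
  simpa only [F, Over.pullback_map_left, pullback.lift_fst] using e'

/-- A morphism to a proper group is determined by its restrictions to the two axes. -/
theorem eq_of_field (f g : X ⊗ Y ⟶ A) (x₀ : 𝟙_ (Over (Spec (CommRingCat.of K))) ⟶ X)
    (y₀ : 𝟙_ (Over (Spec (CommRingCat.of K))) ⟶ Y)
    (hx₀ : lift (toUnit Y ≫ x₀) (𝟙 Y) ≫ f = lift (toUnit Y ≫ x₀) (𝟙 Y) ≫ g)
    (hy₀ : lift (𝟙 X) (toUnit X ≫ y₀) ≫ f = lift (𝟙 X) (toUnit X ≫ y₀) ≫ g) : f = g :=
  mul_inv_eq_one.mp (eq_one_of_field (f * g⁻¹) x₀ y₀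
    (by rw [MonObj.comp_mul, GrpObj.comp_inv, hx₀, mul_inv_cancel])
    (by rw [MonObj.comp_mul, GrpObj.comp_inv, hy₀, mul_inv_cancel]))

end Groth.Agent.AbRigid.Product
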